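import Mathlib

/-!
A checker for consequences of relations: a word is shown trivial by writing it, in the free group,
as a product of conjugates of words already known to be trivial.
Letters are natural numbers: `2 * i` is the generator `i`, `2 * i + 1` its inverse.
-/

set_option autoImplicit false

namespace Cfsg.Agent.Pres

variable {G : Type*} [Group G]

/-- Value of a letter. -/
def evL (g : ℕ → G) (a : ℕ) : G := if a % 2 = 0 then g (a / 2) else (g (a / 2))⁻¹

/-- Value of a word. -/
def ev (g : ℕ → G) : List ℕ → G
  | [] => 1
  | a :: w => evL g a * ev g w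

/-- Inverse letter. -/
def invL (a : ℕ) : ℕ := if a % 2 = 0 then a + 1 else a - 1

/-- Inverse word, put in front of `acc`. -/
def invW : List ℕ → List ℕ → List ℕ
  | [], acc => acc
  | a :: w, acc => invW w (invL a :: acc)

/-- Put a letter in front of a word, cancelling if possible. -/
def consR (a : ℕ) : List ℕ → List ℕ
  | [] => [a]
  | b :: u => if b = invL a then u else a :: b :: u

/-- Put a word in front of another one, cancelling where possible. -/
def appR : List ℕ → List ℕ → List ℕ
  | [], v => v
  | a :: w, v => consR a (appR w v)

theorem evL_invL (g : ℕ → G) (a : ℕ) : evL g (invL a) = (evL g a)⁻¹ := by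
  unfold evL invL
  by_cases h : a % 2 = 0
  · have h1 : (a + 1) % 2 ≠ 0 := by omega
    have h2 : (a + 1) / 2 = a / 2 := by omega
    simp [h, h1, h2]
  · have h1 : (a - 1) % 2 = 0 := by omega
    have h2 : (a - 1) / 2 = a / 2 := by omega
    simp [h, h1, h2]

theorem ev_invW (g : ℕ → G) (w acc : List ℕ) : ev g (invW w acc) = (ev g w)⁻¹ * ev g acc := by
  induction w generalizing acc with
  | nil => simp [invW, ev]
  | cons a w ih => simp [invW, ev, ih, evL_invL, mul_assoc]

theorem ev_consR (g : ℕ → G) (a : ℕ) (w : List ℕ) : ev g (consR a w) = evL g a * ev g w := by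
  cases w with
  | nil => rfl
  | cons b u =>
    simp only [consR]
    split_ifs with h
    · simp [ev, h, evL_invL]
    · rfl

theorem ev_appR (g : ℕ → G) (w v : List ℕ) : ev g (appR w v) = ev g w * ev g v := by
  induction w with
  | nil => simp [appR, ev]
  | cons a w ih => simp [appR, ev, ev_consR, ih, mul_assoc]

theorem ev_append (g : ℕ → G) (w v : List ℕ) : ev g (w ++ v) = ev g w * ev g v := by
  induction w with
  | nil => simp [ev]
  | cons a w ih => simp [ev, ih, mul_assoc]

theorem map_ev {H : Type*} [Group H] (φ : G →* H) (g : ℕ → G) (w : List ℕ) :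
    φ (ev g w) = ev (fun i => φ (g i)) w := by
  induction w with
  | nil => simp [ev]
  | cons a w ih =>
    simp only [ev, map_mul, ih, evL]
    split_ifs <;> simp

theorem ev_mem (g : ℕ → G) (K : Subgroup G) (hg : ∀ i, g i ∈ K) (w : List ℕ) : ev g w ∈ K := by
  induction w with
  | nil => exact K.one_mem
  | cons a w ih =>
    refine K.mul_mem ?_ ih
    unfold evL
    split_ifs
    · exact hg _
    · exact K.inv_mem (hg _)

/-- The product of the conjugates listed in a certificate, in front of `v`. -/
def certW (rels : List (List ℕ)) : List (List ℕ × ℕ × Bool) → List ℕ → List ℕ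
  | [], v => v
  | (c, k, b) :: l, v =>
    appR c (appR (if b then invW (rels.getD k []) [] else rels.getD k [])
      (appR (invW c []) (certW rels l v)))

theorem ev_certW (g : ℕ → G) (rels : List (List ℕ)) (h : ∀ r ∈ rels, ev g r = 1)
    (l : List (List ℕ × ℕ × Bool)) (v : List ℕ) : ev g (certW rels l v) = ev g v := by
  induction l with
  | nil => rfl
  | cons p l ih =>
    obtain ⟨c, k, b⟩ := p
    have hk : ev g (rels.getD k []) = 1 := by
      rw [List.getD_eq_getElem?_getD]
      cases hk : rels[k]? with
      | none => rfl
      | some r => exact h r (List.mem_of_getElem? hk)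
    simp only [certW, ev_appR, ih, ev_invW]
    cases b <;> simp only [Bool.false_eq_true, if_true, if_false, hk, ev_invW, ev] <;> group

/-- Checks a list of new trivial words, each with its certificate. -/
def checkAll (rels : List (List ℕ)) : List (List ℕ × List (List ℕ × ℕ × Bool)) → Bool
  | [] => true
  | (w, l) :: rest => (certW rels l (appR w []) == []) && checkAll (rels ++ [w]) rest

theorem checkAll_sound (g : ℕ → G) (L : List (List ℕ × List (List ℕ × ℕ × Bool))) :
    ∀ rels : List (List ℕ), (∀ r ∈ rels, ev g r = 1) → checkAll rels L = true →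
      ∀ w ∈ L.map Prod.fst, ev g w = 1 := by
  induction L with
  | nil => simp
  | cons p L ih =>
    obtain ⟨w, l⟩ := p
    intro rels h hc
    simp only [checkAll, Bool.and_eq_true, beq_iff_eq] at hc
    have hw : ev g w = 1 := by
      have := ev_certW g rels h l (appR w [])
      rw [hc.1, ev_appR] at this
      simpa [ev] using this.symm
    intro u hu
    rcases List.mem_cons.1 hu with rfl | hu
    · exact hw
    · refine ih (rels ++ [w]) ?_ hc.2 u hu
      intro r hr
      rcases List.mem_append.1 hr with hr | hr
      · exact h r hr
      · rw [List.mem_singleton.1 hr]; exact hw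

end Cfsg.Agent.Pres
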