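import Mathlib
import Cfsg.Agent.Pres.Alt
import Cfsg.Agent.Pres.Deriv

/-!
The presentation `⟨x, y | x³, y⁵, (xy)²⟩` of the alternating group of degree five.
-/

set_option autoImplicit false

namespace Cfsg.Agent.Pres

open Equiv

/-- Certificates for the consequences of the relations that are needed. -/
def a5cert : List (List ℕ × List (List ℕ × ℕ × Bool)) := [
  ([0, 0, 0], [([], 0, true)]),
  ([0, 0, 0], [([], 3, true)]),
  ([1, 1, 1], [([], 4, false)]),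
  ([0, 2, 0, 2], [([], 2, true)]),
  ([2, 0, 2, 0], [([1], 6, true)]),
  ([2, 0, 2, 0], [([], 7, true)]),
  ([3, 1, 3, 1], [([3], 7, false)]),
  ([1, 3, 0, 0, 3], [([2], 4, true), ([], 8, false)]),
  ([0, 2, 1, 1, 2], [([3], 5, true), ([], 9, false)]),
  ([3, 0, 3, 0, 0, 3, 3, 1], [([0, 2], 10, true), ([], 11, false)]),
  ([2, 2, 2, 2, 2], [([], 1, true)]),
  ([2, 2, 2, 2, 2], [([], 13, true)]),
  ([2, 2, 2, 2, 2], [([], 14, true)]),
  ([3, 3, 3, 3, 3], [([], 15, false)]),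
  ([2, 2, 1, 3, 1, 2, 2], [([], 15, true), ([2, 2], 8, false)]),
  ([0, 3, 0, 2, 2, 0, 3, 0, 2, 2, 0, 3, 0, 2, 2], [([3, 0], 8, true), ([3, 0], 16, true), ([], 11, true), ([0, 2], 8, true), ([0], 16, true), ([0, 3, 3], 11, true), ([0, 3, 3, 0, 2], 8, true), ([0, 3, 3, 0], 16, true), ([0, 3, 3, 0, 3, 3], 11, true), ([0, 3, 3, 0, 3, 3, 0, 2], 8, true), ([0, 3], 11, true), ([0, 3, 0, 2], 8, true)]),
  ([3, 0, 2, 2, 3, 0, 2, 2], [([3, 0], 8, true)]),
  ([1, 3, 1, 3], [([1], 9, true)]),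
  ([0, 3, 0, 2, 2, 3, 0, 2, 2, 0, 3, 0, 2, 2, 3, 0, 2, 2, 0, 3, 0, 2, 2, 3, 0, 2, 2], [([3, 0], 8, true), ([], 8, true), ([2], 5, true), ([2, 1], 8, true), ([], 10, true), ([], 4, true), ([0, 3, 0], 8, true)]),
  ([3, 0, 2, 2, 1, 3, 3, 0, 2, 2, 1, 3, 3, 0, 2, 2, 1, 3], [([1], 9, true), ([1], 15, true), ([], 4, true), ([0], 12, true), ([0, 3, 0, 3], 9, true), ([0, 3, 0, 3, 3], 4, true), ([0, 3, 0], 17, true), ([0, 3], 12, true), ([0], 17, true), ([0, 2, 2, 1], 17, true), ([0, 2, 2, 1, 2, 2, 1], 17, true), ([], 12, true), ([3, 0, 3], 12, true), ([3, 0], 17, true)]),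
  ([0, 3, 0, 2, 2, 1, 3, 0, 3, 0, 2, 2, 1, 3], [([1], 9, true), ([1], 15, true), ([], 4, true), ([0], 12, true), ([0, 3, 0, 3], 9, true), ([0, 3, 0, 3, 3], 4, true), ([0, 3, 0], 17, true)]),
  ([0, 3, 0, 2, 2, 3, 0, 2, 2, 1], [([0, 3, 0], 8, true)]),
  ([1, 3, 3, 0, 2, 2, 3, 3, 1, 2, 1, 3], [([1], 9, true)])]

theorem a5cert_ok : checkAll [[0, 0, 0], [2, 2, 2, 2, 2], [0, 2, 0, 2]] a5cert = true := by
  decide +kernel

/-- The element of order three. -/
def a5x : alternatingGroup (Fin 5) := ⟨altGen 3 0 * altGen 3 1,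
  mul_mem (altGen_mem 3 0) (altGen_mem 3 1)⟩

/-- The element of order five. -/
def a5y : alternatingGroup (Fin 5) := ⟨altGen 3 2 * altGen 3 1 * (altGen 3 0)⁻¹,
  mul_mem (mul_mem (altGen_mem 3 2) (altGen_mem 3 1)) (inv_mem (altGen_mem 3 0))⟩

theorem a5x_cube : a5x ^ 3 = 1 := Subtype.ext (by decide +kernel)

theorem a5y_pow : a5y ^ 5 = 1 := Subtype.ext (by decide +kernel)

theorem a5xy_sq : (a5x * a5y) ^ 2 = 1 := Subtype.ext (by decide +kernel)

theorem a5xy_ne : a5x * a5y ≠ 1 := fun h => absurd (congrArg Subtype.val h) (by decide +kernel)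

theorem a5_closure : Subgroup.closure ({a5x, a5y} : Set (alternatingGroup (Fin 5))) = ⊤ := by
  set K := Subgroup.closure ({a5x, a5y} : Set (alternatingGroup (Fin 5)))
  have hx : a5x ∈ K := Subgroup.subset_closure (by simp)
  have hy : a5y ∈ K := Subgroup.subset_closure (by simp)
  have h : alternatingGroup (Fin 5) ≤ K.map (alternatingGroup (Fin 5)).subtype := by
    conv_lhs => rw [← closure_altGen 3]
    rw [Subgroup.closure_le]
    rintro _ ⟨i, rfl⟩
    fin_cases i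
    · exact ⟨a5x * a5y⁻¹ * a5x * a5y * a5y,
        mul_mem (mul_mem (mul_mem (mul_mem hx (inv_mem hy)) hx) hy) hy, by decide +kernel⟩
    · exact ⟨a5y⁻¹ * a5x * a5y * a5y,
        mul_mem (mul_mem (mul_mem (inv_mem hy) hx) hy) hy, by decide +kernel⟩
    · exact ⟨a5x⁻¹ * a5y⁻¹, mul_mem (inv_mem hx) (inv_mem hy), by decide +kernel⟩
  rw [eq_top_iff]
  intro g _
  obtain ⟨u, hu, hug⟩ := h g.2
  exact (Subtype.ext hug : u = g) ▸ hu

/-- Universal property of `A₅` for the `(2,3,5)` relations. -/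
theorem exists_hom_a5 {H : Type*} [Group H] (x y : H) (hx : x ^ 3 = 1) (hy : y ^ 5 = 1)
    (hxy : (x * y) ^ 2 = 1) : ∃ φ : alternatingGroup (Fin 5) →* H, φ a5x = x ∧ φ a5y = y := by
  let g : ℕ → H := fun i => if i = 0 then x else y
  have h := checkAll_sound g a5cert _ (by
    intro r hr
    simp only [List.mem_cons, List.not_mem_nil, or_false] at hr
    rcases hr with rfl | rfl | rfl
    · simpa [ev, evL, g, pow_succ, mul_assoc] using hx
    · simpa [ev, evL, g, pow_succ, mul_assoc] using hy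
    · simpa [ev, evL, g, pow_succ, mul_assoc] using hxy) a5cert_ok
  let a : Fin 3 → H := ![x * y⁻¹ * x * y * y, y⁻¹ * x * y * y, x⁻¹ * y⁻¹]
  have h1 := h [0, 3, 0, 2, 2, 0, 3, 0, 2, 2, 0, 3, 0, 2, 2] (by decide +kernel)
  have h2 := h [3, 0, 2, 2, 3, 0, 2, 2] (by decide +kernel)
  have h3 := h [1, 3, 1, 3] (by decide +kernel)
  have h4 := h [0, 3, 0, 2, 2, 3, 0, 2, 2, 0, 3, 0, 2, 2, 3, 0, 2, 2, 0, 3, 0, 2, 2, 3, 0, 2, 2]
    (by decide +kernel)
  have h5 := h [3, 0, 2, 2, 1, 3, 3, 0, 2, 2, 1, 3, 3, 0, 2, 2, 1, 3] (by decide +kernel)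
  have h6 := h [0, 3, 0, 2, 2, 1, 3, 0, 3, 0, 2, 2, 1, 3] (by decide +kernel)
  have h7 := h [0, 3, 0, 2, 2, 3, 0, 2, 2, 1] (by decide +kernel)
  have h8 := h [1, 3, 3, 0, 2, 2, 3, 3, 1, 2, 1, 3] (by decide +kernel)
  simp only [ev, evL, g, Nat.reduceMod, Nat.reduceDiv, if_true, one_ne_zero,
    if_false, mul_one, Nat.zero_mod, Nat.zero_div] at h1 h2 h3 h4 h5 h6 h7 h8
  have hm : Moore a := by
    constructor
    · intro i hi
      fin_cases i
      · simpa [a, pow_succ, mul_assoc] using h1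
      · simp at hi
      · simp at hi
    · intro i hi
      fin_cases i
      · simp at hi
      · simpa [a, pow_succ, mul_assoc] using h2
      · simpa [a, pow_succ, mul_assoc] using h3
    · intro i j hij
      fin_cases i <;> fin_cases j <;> simp at hij
      · simpa [a, pow_succ, mul_assoc] using h4
      · simpa [a, pow_succ, mul_assoc] using h5
    · intro i j hij
      fin_cases i <;> fin_cases j <;> simp at hij
      simpa [a, pow_succ, mul_assoc] using h6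
  obtain ⟨φ, hφ⟩ := exists_hom_alt 3 a hm
  refine ⟨φ, ?_, ?_⟩
  · have : a5x = ⟨altGen 3 0, altGen_mem 3 0⟩ * ⟨altGen 3 1, altGen_mem 3 1⟩ := rfl
    rw [this, map_mul, hφ, hφ, ← mul_inv_eq_one]
    simpa [a, mul_assoc] using h7
  · have : a5y = ⟨altGen 3 2, altGen_mem 3 2⟩ * ⟨altGen 3 1, altGen_mem 3 1⟩ *
      (⟨altGen 3 0, altGen_mem 3 0⟩)⁻¹ := rfl
    rw [this, map_mul, map_mul, map_inv, hφ, hφ, hφ, ← mul_inv_eq_one]
    simpa [a, mul_assoc] using h8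

end Cfsg.Agent.Pres
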